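import Groth.Agent.Par99.UnipStab
import Groth.Agent.BalProd99.Homog
import Groth.Agent.BalProd99.Fixed
import Mathlib.AlgebraicGeometry.ZariskisMainTheorem

/-!
The stabilizer part maps by a closed immersion to the parabolic induction.
-/

set_option autoImplicit false
set_option linter.style.haveILetI false
set_option maxHeartbeats 400000

noncomputable section

universe u

open CategoryTheory CategoryTheory.Limits MonoidalCategory CartesianMonoidalCategory MonObj GrpObj AlgebraicGeometry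

namespace Groth.Agent.Par99

variable {k : Type u} [Field k] [IsAlgClosed k] [CharZero k]
variable {G X Z Ψ P Xh SX SΨ Y : Over (Spec (CommRingCat.of k))} [GrpObj G] [GrpObj Z] [GrpObj P]
  [IsAffine G.left] [LocallyOfFiniteType X.hom]

theorem isClosedImmersion_stabilizerPart
    (a : AlgGrp.Action G X)
    (σX : SX ⟶ G ⊗ X) [Mono σX]
    (hSX : ∀ (T : Over (Spec (CommRingCat.of k))) (g : T ⟶ G) (x : T ⟶ X),
      (∃ s : T ⟶ SX, s ≫ σX = lift g x) ↔ lift g x ≫ a.act = x)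
    [IsFinite (σX ≫ snd G X).left]
    (h : 𝟙_ (Over (Spec (CommRingCat.of k))) ⟶ G)
    (i : Z ⟶ G) [IsMonHom i]
    (ψ : Ψ ⟶ G) [IsClosedImmersion ψ.left] (aΨ : AlgGrp.Action G Ψ)
    (hψ : aΨ.act ≫ ψ = fst G Ψ * (snd G Ψ ≫ ψ) * (fst G Ψ)⁻¹)
    (o : 𝟙_ (Over (Spec (CommRingCat.of k))) ⟶ Ψ) (ho : o ≫ ψ = h)
    (hhom : ChGrp.IsHomog Scheme.fppfPrecoverage i aΨ o)
    (p : P ⟶ G) [IsMonHom p] [IsClosedImmersion p.left]
    (l : Z ⟶ P) [IsMonHom l] (hl : l ≫ p = i) (hL : Par.IsLevi l)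
    (incl : Xh ⟶ X) [Mono incl]
    (hXh : ∀ (T : Over (Spec (CommRingCat.of k))) (x : T ⟶ X),
      (∃ y : T ⟶ Xh, y ≫ incl = x) ↔ lift (toUnit T ≫ h) x ≫ a.act = x)
    (aXh : AlgGrp.Action Z Xh) (hincl : AlgGrp.Action.IsEquivariant aXh (a.restrict i) incl)
    (σ : SΨ ⟶ G ⊗ X) [Mono σ]
    (hSΨ : ∀ (T : Over (Spec (CommRingCat.of k))) (g : T ⟶ G) (x : T ⟶ X),
      (∃ s : T ⟶ SΨ, s ≫ σ = lift g x) ↔ ((∃ y : T ⟶ Ψ, y ≫ ψ = g) ∧ lift g x ≫ a.act = x))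
    (aS : AlgGrp.Action G SΨ)
    (hσ : aS.act ≫ σ = lift (fst G SΨ * (snd G SΨ ≫ σ ≫ fst G X) * (fst G SΨ)⁻¹)
      (lift (fst G SΨ) (snd G SΨ ≫ σ ≫ snd G X) ≫ a.act))
    (Φ : G ⊗ Xh ⟶ SΨ)
    (hΦ : Φ ≫ σ = lift (fst G Xh * (toUnit (G ⊗ Xh) ≫ h) * (fst G Xh)⁻¹)
      (lift (fst G Xh) (snd G Xh ≫ incl) ≫ a.act))
    (aY : AlgGrp.Action G Y) (jY : G ⊗ X ⟶ Y)
    (hY : ChGrp.IsBalProd Scheme.fppfPrecoverage p (a.restrict p) aY jY)
    (q : Y ⟶ X) (hq : jY ≫ q = a.act) [IsSeparated q.left]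
    (j : SΨ ⟶ Y) (hj : Φ ≫ j = (G ◁ incl) ≫ jY) :
    IsClosedImmersion j.left := by
  haveI : Mono ψ := (Over.forget _).mono_of_mono_map (inferInstance : Mono ψ.left)
  haveI : Mono p := (Over.forget _).mono_of_mono_map (inferInstance : Mono p.left)
  have hB := BalProd99.isBalProd_stabilizerPart a h i ψ aΨ hψ o ho hhom incl hXh aXh hincl σ hSΨ aS hσ Φ hΦ
  have hsplit : ∀ {T W₁ W₂ : Over (Spec (CommRingCat.of k))} (r : T ⟶ W₁ ⊗ W₂),
      r = lift (r ≫ fst W₁ W₂) (r ≫ snd W₁ W₂) := fun {T W₁ W₂} r => by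
    rw [← comp_lift, lift_fst_snd, Category.comp_id]
  have hpt : ∀ {T : Over (Spec (CommRingCat.of k))} (g : T ⟶ G) (x : T ⟶ Xh),
      (lift g x ≫ Φ) ≫ σ = lift (g * (toUnit T ≫ h) * g⁻¹) (lift g (x ≫ incl) ≫ a.act) := fun {T} g x => by
    rw [Category.assoc, hΦ, comp_lift, MonObj.comp_mul, MonObj.comp_mul, GrpObj.comp_inv, lift_fst, ← Category.assoc,
      toUnit_unique (lift g x ≫ toUnit (G ⊗ Xh)) (toUnit T), ← Category.assoc, comp_lift, lift_fst, lift_snd_assoc]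
  have hjpt : ∀ {T : Over (Spec (CommRingCat.of k))} (g : T ⟶ G) (x : T ⟶ Xh),
      (lift g x ≫ Φ) ≫ j = lift g (x ≫ incl) ≫ jY := fun {T} g x => by
    rw [Category.assoc, hj, lift_whiskerLeft_assoc]
  -- finiteness
  have hjq : j ≫ q = σ ≫ snd G X := by
    refine BalProd99.desc_ext Φ hB.2.2 ?_
    rw [reassoc_of% hj, hq, reassoc_of% hΦ, lift_snd]
    refine AlgGrp.Action.hom_ext_lift₂ fun T g x => ?_
    rw [lift_whiskerLeft_assoc, ← Category.assoc, comp_lift, lift_fst, lift_snd_assoc]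
  have hfinj : IsFinite j.left := by
    have hS : ∀ {T : Over (Spec (CommRingCat.of k))} (s : T ⟶ SΨ),
        (∃ y : T ⟶ Ψ, y ≫ ψ = s ≫ σ ≫ fst G X) ∧ lift (s ≫ σ ≫ fst G X) (s ≫ σ ≫ snd G X) ≫ a.act = s ≫ σ ≫ snd G X :=
      fun {T} s => (hSΨ T _ _).mp ⟨s, by rw [hsplit (s ≫ σ)]; simp only [Category.assoc]⟩
    obtain ⟨⟨πΨ, hπ⟩, hfix⟩ := hS (𝟙 SΨ)
    simp only [Category.id_comp] at hπ hfix
    obtain ⟨m, hm⟩ := (hSX SΨ _ _).mpr hfix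
    have hσl : lift (σ ≫ fst G X) (σ ≫ snd G X) = σ := (hsplit σ).symm
    rw [hσl] at hm
    have hp : IsPullback m πΨ (σX ≫ fst G X) ψ := by
      refine IsPullback.mk' (by rw [reassoc_of% hm, hπ]) (fun T φ φ' h1 _ => ?_) (fun T s y e => ?_)
      · rw [← cancel_mono σ, ← hm, reassoc_of% h1]
      · have hs : lift (s ≫ σX ≫ fst G X) (s ≫ σX ≫ snd G X) = s ≫ σX := by
          rw [hsplit (s ≫ σX)]; simp only [Category.assoc]
        obtain ⟨z, hz⟩ := (hSΨ T _ _).mpr ⟨⟨y, e.symm⟩, (hSX T _ _).mp ⟨s, hs.symm⟩⟩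
        rw [hs] at hz
        have hz' : z ≫ m = s := by rw [← cancel_mono σX, Category.assoc, hm, hz]
        refine ⟨z, hz', ?_⟩
        rw [← cancel_mono ψ, Category.assoc, hπ, reassoc_of% hz, e]
    haveI : IsClosedImmersion m.left :=
      MorphismProperty.of_isPullback (hp.flip.map (Over.forget _)) ‹IsClosedImmersion ψ.left›
    haveI : IsFinite (j.left ≫ q.left) := by
      rw [show j.left ≫ q.left = m.left ≫ (σX ≫ snd G X).left by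
        rw [← Over.comp_left, ← Over.comp_left, hjq, reassoc_of% hm]]
      infer_instance
    exact IsFinite.of_comp j.left q.left
  -- the Levi decomposition
  obtain ⟨-, -, -, U, _, u, hu, hiso⟩ := hL
  haveI := hu.1
  haveI : IsClosedImmersion u.left := hu.2.1
  haveI : IsMonHom (u ≫ p) := inferInstance
  haveI : IsClosedImmersion (u ≫ p).left := by
    show IsClosedImmersion (u.left ≫ p.left); infer_instance
  haveI : IsAffine U.left := isAffine_of_isAffineHom (u ≫ p).left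
  have hdec : ∀ {T : Over (Spec (CommRingCat.of k))} (pp : T ⟶ P), ∃ (z : T ⟶ Z) (v : T ⟶ U), pp = (z ≫ l) * (v ≫ u) := by
    intro T pp
    haveI := hiso
    let r := pp ≫ inv ((l ⊗ₘ u) ≫ μ[P])
    refine ⟨r ≫ fst Z U, r ≫ snd Z U, ?_⟩
    have e : r ≫ (l ⊗ₘ u) ≫ μ[P] = pp := by simp [r]
    conv_lhs => rw [← e, hsplit r, lift_map_assoc, ← Hom.mul_def]
  have huniq : ∀ {T : Over (Spec (CommRingCat.of k))} (z : T ⟶ Z) (v : T ⟶ U), z ≫ l = v ≫ u → v = 1 := by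
    intro T z v e
    haveI := hiso
    have e' : lift z (1 : T ⟶ U) ≫ (l ⊗ₘ u) ≫ μ[P] = lift (1 : T ⟶ Z) v ≫ (l ⊗ₘ u) ≫ μ[P] := by
      rw [lift_map_assoc, lift_map_assoc, ← Hom.mul_def, ← Hom.mul_def, MonObj.one_comp, MonObj.one_comp,
        _root_.mul_one, _root_.one_mul, e]
    have := congrArg (· ≫ snd Z U) ((cancel_mono _).mp e')
    simpa using this.symm
  have horb : ∀ {T : Over (Spec (CommRingCat.of k))} (g : T ⟶ G),
      (g ≫ aΨ.orbitMap o) ≫ ψ = g * (toUnit T ≫ h) * g⁻¹ := fun {T} g => by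
    rw [AlgGrp.Action.comp_orbitMap, Category.assoc, hψ, MonObj.comp_mul, MonObj.comp_mul, GrpObj.comp_inv, lift_fst,
      lift_snd_assoc, Category.assoc, ho]
  have hcomm : ∀ {T : Over (Spec (CommRingCat.of k))} (z : T ⟶ Z),
      (z ≫ i) * (toUnit T ≫ h) = (toUnit T ≫ h) * (z ≫ i) := fun {T} z => by
    have e := congrArg (fun r => lift (1 : T ⟶ G) z ≫ r ≫ ψ) hhom.2.1.w
    simp only [Category.assoc, lift_fst_assoc, lift_whiskerLeft_assoc] at e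
    rw [← Category.assoc (1 : T ⟶ G), horb, reassoc_of% (Hom.mul_def (1 : T ⟶ G) (z ≫ i)).symm, ← Category.assoc (1 * _),
      horb, _root_.one_mul, inv_one, _root_.mul_one, _root_.one_mul] at e
    exact (eq_mul_inv_iff_mul_eq.mp e).symm
  have hcent : ∀ {T : Over (Spec (CommRingCat.of k))} (g : T ⟶ G), g * (toUnit T ≫ h) = (toUnit T ≫ h) * g →
      ∃ z : T ⟶ Z, z ≫ i = g := by
    intro T g e
    have e' : (1 : T ⟶ G) ≫ aΨ.orbitMap o = g ≫ aΨ.orbitMap o := by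
      rw [← cancel_mono ψ, horb, horb, _root_.one_mul, inv_one, _root_.mul_one, e, mul_inv_cancel_right]
    let r := hhom.2.1.lift (1 : T ⟶ G) g e'
    refine ⟨r ≫ snd G Z, ?_⟩
    have h2 : r ≫ (G ◁ i) ≫ μ[G] = g := hhom.2.1.lift_snd _ _ _
    have h1 : r ≫ fst G Z = 1 := hhom.2.1.lift_fst _ _ _
    rw [hsplit r, h1, lift_whiskerLeft_assoc, ← Hom.mul_def, _root_.one_mul] at h2
    exact h2
  obtain ⟨z₀, hz₀⟩ := hcent h (by simp [toUnit_unique (toUnit (𝟙_ (Over (Spec (CommRingCat.of k))))) (𝟙 _)])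
  have hmono : Mono j := by
    refine ⟨fun {T} s₁ s₂ e => ?_⟩
    refine BalProd99.ext_of_lifts Φ hB.2.2 s₁ s₁ s₂ fun T₁ f r hr => ?_
    refine BalProd99.ext_of_lifts Φ hB.2.2 (f ≫ s₂) (f ≫ s₁) (f ≫ s₂) fun T₂ f' r' hr' => ?_
    rw [← hr, ← hr', ← Category.assoc f' r, hsplit (f' ≫ r), hsplit r']
    have e' : ((f' ≫ r) ≫ Φ) ≫ j = (r' ≫ Φ) ≫ j := by
      rw [Category.assoc f' r, hr, hr']; simp only [Category.assoc, e]
    rw [hsplit (f' ≫ r), hsplit r', hjpt, hjpt] at e'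
    obtain ⟨pp, h1, h2⟩ := BalProd99.exists_of_eq hY _ _ e'
    simp only [lift_fst, lift_snd] at h1 h2
    rw [AlgGrp.Action.lift_restrict_act] at h2
    generalize (f' ≫ r) ≫ fst G Xh = g₁ at h1 h2 ⊢
    generalize (f' ≫ r) ≫ snd G Xh = x₁ at h1 h2 ⊢
    generalize r' ≫ fst G Xh = g₂ at h1 h2 ⊢
    generalize r' ≫ snd G Xh = x₂ at h1 h2 ⊢
    obtain ⟨z, v, hv⟩ := hdec pp
    have hppG : pp ≫ p = (z ≫ i) * (v ≫ u ≫ p) := by
      rw [hv, MonObj.mul_comp, Category.assoc, Category.assoc, hl]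
    -- the commutator lies in the unipotent radical
    let z' : T₂ ⟶ Z := toUnit T₂ ≫ z₀
    have hz' : z' ≫ i = toUnit T₂ ≫ h := by rw [Category.assoc, hz₀]
    obtain ⟨n', hn'⟩ := hu.2.2.1 T₂ (z' ≫ l)⁻¹ v⁻¹
    let c : T₂ ⟶ U := n' * v
    have hc : c ≫ u ≫ p = (toUnit T₂ ≫ h)⁻¹ * (v ≫ u ≫ p)⁻¹ * (toUnit T₂ ≫ h) * (v ≫ u ≫ p) := by
      rw [MonObj.mul_comp, ← Category.assoc n', ← hn', MonObj.mul_comp, MonObj.mul_comp, _root_.inv_inv,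
        GrpObj.inv_comp (z' ≫ l), GrpObj.inv_comp v, GrpObj.inv_comp (v ≫ u), Category.assoc z', hl, hz', Category.assoc]
    have hconj : (pp ≫ p)⁻¹ * (toUnit T₂ ≫ h) * (pp ≫ p) = (v ≫ u ≫ p)⁻¹ * (toUnit T₂ ≫ h) * (v ≫ u ≫ p) := by
      rw [hppG, _root_.mul_inv_rev, _root_.mul_assoc _ (z ≫ i)⁻¹ (toUnit T₂ ≫ h)]
      rw [show (z ≫ i)⁻¹ * (toUnit T₂ ≫ h) = (toUnit T₂ ≫ h) * (z ≫ i)⁻¹ from
        (Commute.inv_left (hcomm z)).eq]
      group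
    have hx₁ : lift (toUnit T₂ ≫ h) (x₁ ≫ incl) ≫ a.act = x₁ ≫ incl := (hXh T₂ _).mp ⟨x₁, rfl⟩
    have hx₂ : lift (toUnit T₂ ≫ h) (x₂ ≫ incl) ≫ a.act = x₂ ≫ incl := (hXh T₂ _).mp ⟨x₂, rfl⟩
    have hfix' : lift ((pp ≫ p)⁻¹ * (toUnit T₂ ≫ h) * (pp ≫ p)) (x₂ ≫ incl) ≫ a.act = x₂ ≫ incl := by
      rw [AlgGrp79.mul_act', AlgGrp79.mul_act', ← h2, hx₁, h2, AlgGrp79.inv_act_act]
    have hcfix : lift (c ≫ u ≫ p) (x₂ ≫ incl) ≫ a.act = x₂ ≫ incl := by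
      rw [hc, show (toUnit T₂ ≫ h)⁻¹ * (v ≫ u ≫ p)⁻¹ * (toUnit T₂ ≫ h) * (v ≫ u ≫ p) =
        (toUnit T₂ ≫ h)⁻¹ * ((v ≫ u ≫ p)⁻¹ * (toUnit T₂ ≫ h) * (v ≫ u ≫ p)) by group, ← hconj, AlgGrp79.mul_act', hfix']
      conv_lhs => rw [← hx₂, AlgGrp79.inv_act_act]
    have hc1 : c = 1 := eq_one_of_fixed a σX hSX (u ≫ p) (fun d hd => point_eq_one_of_isOfFinOrder u hu d hd)
      c (x₂ ≫ incl) hcfix
    rw [hc1, MonObj.one_comp] at hc
    have hvh : (v ≫ u ≫ p) * (toUnit T₂ ≫ h) = (toUnit T₂ ≫ h) * (v ≫ u ≫ p) := by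
      have := hc.symm
      rw [_root_.mul_assoc, _root_.mul_assoc, inv_mul_eq_one, eq_inv_mul_iff_mul_eq] at this
      exact this
    obtain ⟨z₁, hz₁⟩ := hcent _ hvh
    have hv1 : v = 1 := huniq z₁ v (by rw [← cancel_mono p, Category.assoc, hl, hz₁, Category.assoc])
    rw [hppG, hv1, MonObj.one_comp, _root_.mul_one] at h1 h2
    rw [← cancel_mono σ, hpt, hpt, h2, h1]
    congr 1
    · rw [show g₂ * (z ≫ i)⁻¹ * (toUnit T₂ ≫ h) * (g₂ * (z ≫ i)⁻¹)⁻¹ =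
        g₂ * ((z ≫ i)⁻¹ * (toUnit T₂ ≫ h) * (z ≫ i)) * g₂⁻¹ by group, _root_.mul_assoc (z ≫ i)⁻¹, ← hcomm, inv_mul_cancel_left]
    · rw [← AlgGrp79.mul_act', inv_mul_cancel_right]
  haveI := hfinj
  haveI : Mono j.left := inferInstanceAs (Mono ((Over.forget _).map j))
  exact (IsClosedImmersion.iff_isFinite_and_mono j.left).mpr ⟨hfinj, inferInstance⟩

end Groth.Agent.Par99
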