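import Groth.Prelude.Def_Par
import Groth.Prelude.Def_ChGrp
import Groth.Agent.GMod80.NoTorus
import Groth.Agent.BddFin96.Unip
import Groth.Agent.Cartier57.Reduced
import Groth.Agent.SGA3a.SubGrpOfMono
import Groth.Agent.FlatMor67.ClosedNhd
import Groth.Agent.AlgGrp79.Act
import Mathlib.AlgebraicGeometry.AlgClosed.Basic

/-!
Unipotent groups in characteristic zero meet finite stabilizers trivially.
-/

set_option autoImplicit false
set_option linter.style.haveILetI false

noncomputable section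

universe u

open CategoryTheory CategoryTheory.Limits MonoidalCategory CartesianMonoidalCategory MonObj GrpObj AlgebraicGeometry

namespace Groth.Agent.Par99

variable {k : Type u} [Field k] [IsAlgClosed k]

/-- A finite morphism with trivial fibres over rational points is a closed immersion. -/
theorem isClosedImmersion_of_points {X Y : Scheme.{u}} (f : X ⟶ Y) [IsFinite f]
    (g : Y ⟶ Spec (CommRingCat.of k)) [LocallyOfFiniteType g]
    (h : ∀ y : Spec (CommRingCat.of k) ⟶ Y, y ≫ g = 𝟙 _ →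
      IsEmpty ↥(pullback f y) ∨ IsIso (pullback.snd f y)) : IsClosedImmersion f := by
  have : JacobsonSpace Y := LocallyOfFiniteType.jacobsonSpace g
  let W : Set Y := {y | ∃ U : Y.Opens, y ∈ U ∧ IsClosedImmersion (f ∣_ U)}
  have hW : IsOpen W := isOpen_iff_forall_mem_open.mpr fun y ⟨U, hy, hU⟩ =>
    ⟨U, fun z hz => ⟨U, hz, hU⟩, U.2, hy⟩
  have hcl : closedPoints Y ⊆ W := by
    intro y hy
    have hy' : IsClosed ({y} : Set Y) := hy
    refine FlatMor67.ClosedNhd.exists_closedImmersion_nhd f y ?_ ⊤ trivial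
    let r := Spec.map (residueFieldIsoBase g y hy').hom
    let m := pullback.map f (pointOfClosedPoint g y hy') f (Y.fromSpecResidueField y) (𝟙 _) r (𝟙 _)
          (by simp) (by simp [pointOfClosedPoint, r])
    have hp : IsPullback
        m
        (pullback.snd f (pointOfClosedPoint g y hy')) (f.fiberToSpecResidueField y) r := by
      refine IsPullback.of_right (h₁₂ := pullback.fst f (Y.fromSpecResidueField y)) (v₁₃ := f)
        (h₂₂ := Y.fromSpecResidueField y) ?_ (pullback.lift_snd _ _ _) (IsPullback.of_hasPullback _ _)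
      rw [pullback.lift_fst, Category.comp_id]
      exact IsPullback.of_hasPullback f (pointOfClosedPoint g y hy')
    haveI : IsIso m := hp.isIso_fst_of_isIso
    rcases h _ (pointOfClosedPoint_comp g y hy') with he | he
    · left
      exact ⟨fun z => he.false ((inv m).base z)⟩
    · right
      have e := hp.w
      haveI := he
      haveI : IsIso (m ≫ f.fiberToSpecResidueField y) := by
        rw [e]; infer_instance
      exact IsIso.of_isIso_comp_left m _
  have hall : W = Set.univ := by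
    by_contra hne
    obtain ⟨z, hz, hzc⟩ := nonempty_inter_closedPoints (Z := Wᶜ)
      (Set.nonempty_compl.mpr hne) hW.isClosed_compl.isLocallyClosed
    exact hz (hcl hzc)
  choose U hU hci using fun y : Y => (show y ∈ W from hall ▸ trivial)
  rw [IsZariskiLocalAtTarget.iff_of_iSup_eq_top (P := @IsClosedImmersion) U
    (top_le_iff.mp fun y _ => TopologicalSpace.Opens.mem_iSup.mpr ⟨y, hU y⟩)]
  exact hci

theorem point_eq_one_of_isOfFinOrder [CharZero k] {U P : Over (Spec (CommRingCat.of k))} [GrpObj U] [GrpObj P]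
    [IsAffine U.left] (u : U ⟶ P) (hu : Par.IsUnipotentRadical u)
    (c : 𝟙_ (Over (Spec (CommRingCat.of k))) ⟶ U) (hc : IsOfFinOrder c) : c = 1 := by
  haveI : Smooth U.hom := hu.2.2.2.1
  obtain ⟨A, _, _, ψ, hψ⟩ := GMod80.exists_coord U
  have := GMod80.finiteType ψ
  have hA := GMod80.isUnipotent_of_isUnipotentRadical ψ u hu
  let φ : (𝟙_ (Over (Spec (CommRingCat.of k))) ⟶ U) →* (VecGrp.pt k k ⟶ U) :=
    { toFun := fun c => toUnit _ ≫ c
      map_one' := MonObj.comp_one _
      map_mul' := fun a b => MonObj.comp_mul _ _ _ }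
  let g := (GMod80.e ψ k).symm (φ c)
  have hg : IsOfFinOrder g := (GMod80.e ψ k).symm.toMonoidHom.isOfFinOrder (φ.isOfFinOrder hc)
  have h1 := BddFin96.point_eq_one_of_isUnipotent hA g hg (Nat.cast_ne_zero.mpr hg.orderOf_pos.ne')
  have h2 : φ c = 1 := by simpa [g] using h1
  let s : 𝟙_ (Over (Spec (CommRingCat.of k))) ⟶ VecGrp.pt k k := Over.homMk (𝟙 _) (by
    show 𝟙 _ ≫ Spec.map (CommRingCat.ofHom (algebraMap k k)) = 𝟙 _
    rw [Category.id_comp]
    exact Spec.map_id _)
  have h3 := congrArg (s ≫ ·) h2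
  simpa [φ, toUnit_unique (s ≫ toUnit _) (𝟙 _), reassoc_of% (toUnit_unique (s ≫ toUnit _) (𝟙 _))] using h3

/-- The locus of a torsion-free group in a finite stabilizer is the unit section. -/
theorem eq_one_of_fixed [CharZero k]
    {G U X SX : Over (Spec (CommRingCat.of k))} [GrpObj G] [GrpObj U] [LocallyOfFiniteType X.hom]
    (a : AlgGrp.Action G X)
    (σX : SX ⟶ G ⊗ X) [Mono σX]
    (hSX : ∀ (T : Over (Spec (CommRingCat.of k))) (g : T ⟶ G) (x : T ⟶ X),
      (∃ s : T ⟶ SX, s ≫ σX = lift g x) ↔ lift g x ≫ a.act = x)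
    [IsFinite (σX ≫ snd G X).left]
    (v : U ⟶ G) [IsMonHom v] [IsClosedImmersion v.left]
    (htors : ∀ c : 𝟙_ (Over (Spec (CommRingCat.of k))) ⟶ U, IsOfFinOrder c → c = 1)
    {T : Over (Spec (CommRingCat.of k))} (c : T ⟶ U) (x : T ⟶ X)
    (hfix : lift (c ≫ v) x ≫ a.act = x) : c = 1 := by
  let w : SX ⟶ G := σX ≫ fst G X
  let W : Over (Spec (CommRingCat.of k)) := Over.mk (pullback.fst v.left w.left ≫ U.hom)
  let pU : W ⟶ U := Over.homMk (pullback.fst v.left w.left) rfl
  let pS : W ⟶ SX := Over.homMk (pullback.snd v.left w.left) (by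
    show pullback.snd v.left w.left ≫ SX.hom = pullback.fst v.left w.left ≫ U.hom
    rw [← Over.w w, ← Over.w v, pullback.condition_assoc])
  have hW : IsPullback pU pS v w :=
    IsPullback.of_map (Over.forget _) (Over.OverMorphism.ext pullback.condition)
      (IsPullback.of_hasPullback v.left w.left)
  let π : W ⟶ X := pS ≫ σX ≫ snd G X
  haveI : IsClosedImmersion pS.left := MorphismProperty.pullback_snd (P := @IsClosedImmersion) _ _ ‹_›
  haveI : IsFinite π.left := by
    show IsFinite (pS.left ≫ (σX ≫ snd G X).left)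
    infer_instance
  haveI : Mono v := (Over.forget _).mono_of_mono_map (inferInstance : Mono v.left)
  have hsplit : ∀ {T' : Over (Spec (CommRingCat.of k))} (s : T' ⟶ SX),
      s ≫ σX = lift (s ≫ σX ≫ fst G X) (s ≫ σX ≫ snd G X) := fun {T'} s => by
    rw [← Category.assoc, ← Category.assoc s σX, ← comp_lift, lift_fst_snd, Category.comp_id]
  have hmem : ∀ {T' : Over (Spec (CommRingCat.of k))} (d : T' ⟶ U) (y : T' ⟶ X),
      lift (d ≫ v) y ≫ a.act = y → ∃ t : T' ⟶ W, t ≫ pU = d ∧ t ≫ π = y := by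
    intro T' d y hy
    obtain ⟨s, hs⟩ := (hSX T' _ _).mpr hy
    have hsw : d ≫ v = s ≫ w := by rw [reassoc_of% hs, lift_fst]
    refine ⟨hW.lift d s hsw, hW.lift_fst _ _ _, ?_⟩
    rw [show π = pS ≫ σX ≫ snd G X from rfl, hW.lift_snd_assoc, reassoc_of% hs, lift_snd]
  have hof : ∀ {T' : Over (Spec (CommRingCat.of k))} (t : T' ⟶ W),
      lift ((t ≫ pU) ≫ v) (t ≫ π) ≫ a.act = t ≫ π := fun {T'} t => by
    refine (hSX T' _ _).mp ⟨t ≫ pS, ?_⟩
    rw [Category.assoc t pU, hW.w, hsplit (t ≫ pS)]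
    simp only [π, w, Category.assoc]
  have hext : ∀ {T' : Over (Spec (CommRingCat.of k))} (t t' : T' ⟶ W),
      t ≫ pU = t' ≫ pU → t ≫ π = t' ≫ π → t = t' := fun {T'} t t' e1 e2 => by
    refine hW.hom_ext e1 ?_
    rw [← cancel_mono σX, hsplit, hsplit (t' ≫ pS)]
    have e3 : (t ≫ pS) ≫ w = (t' ≫ pS) ≫ w := by
      rw [Category.assoc, Category.assoc, ← hW.w, ← Category.assoc, ← Category.assoc, e1]
    simp only [π, w, Category.assoc] at e2 e3 ⊢
    rw [e2, e3]
  suffices IsClosedImmersion π.left by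
    haveI : Mono π := (Over.forget _).mono_of_mono_map (inferInstance : Mono π.left)
    obtain ⟨t, ht1, ht2⟩ := hmem c x hfix
    obtain ⟨t', ht1', ht2'⟩ := hmem 1 x (by rw [MonObj.one_comp, AlgGrp79.one_act'])
    rw [← ht1, ← ht1', (cancel_mono π).mp (ht2.trans ht2'.symm)]
  refine isClosedImmersion_of_points π.left X.hom fun y hy => Or.inr ?_
  let y' : 𝟙_ (Over (Spec (CommRingCat.of k))) ⟶ X := Over.homMk y hy
  let H : Over (Spec (CommRingCat.of k)) := Over.mk (pullback.snd π.left y)
  let pH : H ⟶ W := Over.homMk (pullback.fst π.left y) (by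
    show pullback.fst π.left y ≫ W.hom = pullback.snd π.left y
    rw [← Over.w π, pullback.condition_assoc, hy]; exact Category.comp_id _)
  have hHw : pH ≫ π = toUnit H ≫ y' := Over.OverMorphism.ext (by
    have e : (toUnit H).left = pullback.snd π.left y := (Category.comp_id _).symm.trans (Over.w (toUnit H))
    show pullback.fst π.left y ≫ π.left = (toUnit H).left ≫ y
    rw [e]
    exact pullback.condition)
  let t : H ⟶ U := pH ≫ pU
  have hlift : ∀ {T' : Over (Spec (CommRingCat.of k))} (d : T' ⟶ U),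
      lift (d ≫ v) (toUnit T' ≫ y') ≫ a.act = toUnit T' ≫ y' → ∃ z : T' ⟶ H, z ≫ t = d := by
    intro T' d hd
    obtain ⟨s, hs1, hs2⟩ := hmem d _ hd
    have e : (toUnit T').left = T'.hom := (Category.comp_id _).symm.trans (Over.w (toUnit T'))
    refine ⟨Over.homMk (pullback.lift s.left T'.hom (by
      have h3 : s.left ≫ π.left = (toUnit T').left ≫ y := congrArg CommaMorphism.left hs2
      rw [e] at h3
      exact h3)) (pullback.lift_snd _ _ _), ?_⟩
    rw [← hs1]
    apply Over.OverMorphism.ext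
    exact pullback.lift_fst_assoc _ _ _ _
  have hfixH : ∀ {T' : Over (Spec (CommRingCat.of k))} (z : T' ⟶ H),
      lift ((z ≫ t) ≫ v) (toUnit T' ≫ y') ≫ a.act = toUnit T' ≫ y' := fun {T'} z => by
    have e : toUnit T' ≫ y' = (z ≫ pH) ≫ π := by
      rw [Category.assoc, hHw, ← Category.assoc, toUnit_unique (z ≫ toUnit H) (toUnit T')]
    rw [e, show z ≫ t = (z ≫ pH) ≫ pU from (Category.assoc _ _ _).symm]
    exact hof _
  haveI : Mono t := ⟨fun {T'} z z' e => by
    have e' : z ≫ pH = z' ≫ pH := by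
      refine hext _ _ (by simpa [t, Category.assoc] using e) ?_
      rw [Category.assoc, Category.assoc, hHw, ← Category.assoc, ← Category.assoc,
        toUnit_unique (z ≫ toUnit H) (z' ≫ toUnit H)]
    apply Over.OverMorphism.ext
    apply pullback.hom_ext (congrArg CommaMorphism.left e')
    exact (Over.w z).trans (Over.w z').symm⟩
  have hmul : ∀ {T' : Over (Spec (CommRingCat.of k))} (d d' : T' ⟶ U),
      lift (d ≫ v) (toUnit T' ≫ y') ≫ a.act = toUnit T' ≫ y' →
      lift (d' ≫ v) (toUnit T' ≫ y') ≫ a.act = toUnit T' ≫ y' →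
      lift ((d * d') ≫ v) (toUnit T' ≫ y') ≫ a.act = toUnit T' ≫ y' := fun {T'} d d' e e' => by
    rw [MonObj.mul_comp, AlgGrp79.mul_act', e', e]
  obtain ⟨z1, h1⟩ := hlift (1 : 𝟙_ (Over (Spec (CommRingCat.of k))) ⟶ U) (by rw [MonObj.one_comp, AlgGrp79.one_act'])
  have hinv : ∃ z, z ≫ t = t⁻¹ := by
    refine hlift _ ?_
    have e := hfixH (𝟙 H)
    rw [Category.id_comp] at e
    rw [GrpObj.inv_comp]
    conv_lhs => rw [← e, AlgGrp79.inv_act_act]
  have hmul' : ∃ z, z ≫ t = (fst H H ≫ t) * (snd H H ≫ t) := hlift _ (hmul _ _ (hfixH _) (hfixH _))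
  letI := SGA3a.grpObjOfMono t ⟨z1, h1⟩ hmul' hinv
  haveI : IsMonHom t := SGA3a.isMonHom_grpObjOfMono t ⟨z1, h1⟩ hmul' hinv
  haveI : IsFinite H.hom := MorphismProperty.pullback_snd (P := @IsFinite) _ _ ‹_›
  haveI : IsReduced H.left := Cartier57.isReduced_of_isAlgClosed H
  haveI : Finite H.left := Set.finite_univ_iff.mp (by
    have h1 := H.hom.finite_preimage_singleton (IsLocalRing.closedPoint k)
    convert h1
    ext z
    exact iff_of_true trivial (@Subsingleton.elim (PrimeSpectrum k) _ (H.hom z) (IsLocalRing.closedPoint k)))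
  haveI : Finite (𝟙_ (Over (Spec (CommRingCat.of k))) ⟶ H) :=
    Finite.of_injective (fun p => p.left (IsLocalRing.closedPoint k)) fun p q e =>
      Over.OverMorphism.ext (ext_of_apply_closedPoint_eq H.hom (Over.w p) (Over.w q) e)
  have hpts : ∀ p : 𝟙_ (Over (Spec (CommRingCat.of k))) ⟶ H, p = 1 := fun p => by
    let φ : (𝟙_ (Over (Spec (CommRingCat.of k))) ⟶ H) →* (𝟙_ (Over (Spec (CommRingCat.of k))) ⟶ U) :=
      { toFun := fun q => q ≫ t
        map_one' := MonObj.one_comp t
        map_mul' := fun q q' => MonObj.mul_comp q q' t }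
    have e := htors _ (φ.isOfFinOrder (isOfFinOrder_of_finite p))
    exact (cancel_mono t).mp (e.trans (MonObj.one_comp t).symm)
  let e : Spec (CommRingCat.of k) ⟶ H.left := (1 : 𝟙_ (Over (Spec (CommRingCat.of k))) ⟶ H).left
  have he : e ≫ H.hom = 𝟙 _ := Over.w _
  haveI : IsClosedImmersion e := isClosedImmersion_of_comp_eq_id _ _ he
  haveI : Surjective e := ⟨fun z => by
    have := LocallyOfFiniteType.jacobsonSpace H.hom
    have hz : IsClosed ({z} : Set H.left) := isClosed_singleton
    let p : 𝟙_ (Over (Spec (CommRingCat.of k))) ⟶ H :=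
      Over.homMk (pointOfClosedPoint H.hom z hz) (pointOfClosedPoint_comp _ _ _)
    refine ⟨IsLocalRing.closedPoint k, ?_⟩
    show (1 : 𝟙_ (Over (Spec (CommRingCat.of k))) ⟶ H).left _ = z
    rw [← hpts p]
    exact pointOfClosedPoint_apply _ _ _ _⟩
  haveI : IsIso e := isIso_of_isClosedImmersion_of_surjective e
  show IsIso H.hom
  haveI : IsIso (e ≫ H.hom) := by rw [he]; infer_instance
  exact IsIso.of_isIso_comp_left e H.hom

end Groth.Agent.Par99
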